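import Cfsg.Agent.Lib.Chev.TwE6BN

/-!
# Tables for the relative root system of type `F₄` of `²E₆`
-/

set_option autoImplicit false

namespace Cfsg.Agent.Lib.TwE6St

open Cfsg.Agent.Lib.Chev Cfsg.Lie

/-- relative root of a root -/
def relL : List ℕ := [47,46,45,44,42,44,43,40,41,37,35,39,34,31,28,27,42,40,38,37,36,33,35,33,30,24,34,32,29,26,31,29,25,28,26,27,3,2,4,1,5,7,2,5,8,10,0,6,9,11,9,12,13,14,16,18,3,4,7,10,15,11,13,17,16,19,20,18,20,21,22,23]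

/-- relative root of a root -/
def rel (r : ℕ) : ℕ := relL.getD r 0

/-- a representative of a relative root -/
def repL : List ℕ := [46,39,42,56,38,40,47,41,44,48,45,49,51,52,53,60,54,63,55,65,66,69,70,71,25,32,29,15,33,31,24,30,27,23,26,22,20,19,18,11,17,8,16,6,5,2,1,0]

/-- a representative of a relative root -/
def repR (j : ℕ) : ℕ := repL.getD j 0

/-- the roots of a positive relative root -/
def clsL : List (List ℕ) := [[46],[39],[42,37],[56,36],[38,57],[40,43],[47],[41,58],[44],[48,50],[45,59],[49,61],[51],[52,62],[53],[60],[54,64],[63],[55,67],[65],[66,68],[69],[70],[71]]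

/-- the roots of a positive relative root -/
def cls (j : ℕ) : List ℕ := clsL.getD j []

/-- the witnesses -/
def witL : List (List (Bool × ℤ × ℤ × ℤ × ℤ × ℤ × ℤ)) := [
[(false,0,0,0,0,0,0),(false,0,0,(-1),0,0,0),(false,(-1),0,0,0,0,0),(false,0,0,(-1),0,0,0),(false,(-1),0,0,0,0,0),(false,(-1),0,0,0,0,0),(false,0,0,(-1),0,0,0),(false,(-1),0,0,0,0,0),(false,(-1),0,0,0,0,0),(false,(-1),0,0,0,0,0),(false,(-1),0,0,0,0,0),(false,(-1),0,0,0,0,0),(false,(-1),0,0,0,0,0),(false,(-1),0,0,0,0,0),(false,(-1),0,0,0,0,0),(false,(-1),0,0,0,0,0),(false,(-1),0,0,0,0,0),(false,(-1),0,0,0,0,0),(false,(-1),0,0,0,0,0),(false,(-1),0,0,0,0,0),(false,(-1),0,0,0,0,0),(false,0,0,(-1),0,0,0),(true,0,0,0,0,(-1),(-1)),(true,0,0,0,0,0,(-1))],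
[(false,0,0,0,0,0,0),(false,0,0,0,0,0,0),(false,(-1),0,0,0,0,0),(true,0,0,0,0,(-1),0),(false,(-1),0,0,0,0,0),(false,(-1),0,0,0,0,0),(true,0,0,(-1),0,0,(-1)),(false,(-1),0,0,0,0,0),(false,(-1),0,0,0,0,0),(false,(-1),0,0,0,0,0),(false,(-1),0,0,0,0,0),(false,(-1),0,0,0,0,0),(false,(-1),0,0,0,0,0),(false,(-1),0,0,0,0,0),(false,(-1),0,0,0,0,0),(false,(-1),0,0,0,0,0),(false,(-1),0,0,0,0,0),(false,(-1),0,0,0,0,0),(false,(-1),0,0,0,0,0),(false,(-1),0,0,0,0,0),(false,(-1),0,0,0,0,0),(true,0,0,0,0,(-1),0),(true,0,0,(-1),0,0,0),(true,0,0,(-1),0,0,0)],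
[(false,0,0,0,0,0,0),(false,0,0,0,0,0,0),(false,0,0,0,0,0,0),(true,0,0,0,0,0,(-1)),(true,0,0,(-1),(-1),0,(-1)),(false,0,0,0,0,(-1),0),(true,(-1),0,0,0,0,0),(false,0,0,0,0,(-1),0),(false,0,0,0,0,(-1),0),(false,0,0,0,0,(-1),0),(false,0,0,0,0,(-1),0),(false,0,0,0,0,(-1),0),(false,0,0,0,0,(-1),0),(false,0,0,0,0,(-1),0),(true,(-1),1,0,0,0,0),(false,0,0,0,0,(-1),0),(true,(-1),(-1),0,0,0,0),(false,0,0,0,0,(-1),0),(true,0,0,0,0,0,(-1)),(true,(-1),0,(-1),0,0,0),(true,0,0,0,0,0,(-1)),(true,(-1),0,0,0,0,0),(true,(-1),0,0,0,0,0),(true,(-1),0,0,0,0,0)],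
[(false,0,0,0,0,0,0),(false,0,0,0,0,0,0),(false,0,0,0,0,0,0),(false,0,0,0,0,0,0),(false,0,0,0,0,0,(-1)),(false,0,0,0,0,(-1),0),(false,0,0,0,0,(-1),0),(false,0,0,0,0,(-1),0),(false,0,0,0,0,(-1),0),(false,0,0,0,0,(-1),0),(false,0,0,0,0,(-1),0),(false,0,0,0,0,(-1),0),(false,0,0,0,0,(-1),0),(false,0,0,0,0,(-1),0),(true,0,0,(-1),0,0,0),(true,0,0,(-1),0,0,0),(false,0,0,0,0,0,(-1)),(true,0,0,(-1),0,0,0),(true,(-1),(-1),(-1),(-1),0,0),(false,0,0,0,0,0,(-1)),(true,0,0,(-1),(-1),0,0),(false,0,0,0,0,0,(-1)),(true,0,0,(-1),0,0,0),(true,0,0,(-1),0,0,0)],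
[(false,0,0,0,0,0,0),(false,0,0,0,0,0,0),(false,0,0,0,0,0,0),(false,0,0,0,0,0,0),(false,0,0,0,0,0,0),(false,0,0,0,0,(-1),0),(true,(-1),0,0,0,0,0),(false,0,0,0,0,(-1),0),(false,0,0,0,0,(-1),0),(false,0,0,0,0,(-1),0),(false,0,0,0,0,(-1),0),(false,0,0,0,0,(-1),0),(false,0,0,0,0,(-1),0),(false,0,0,0,0,(-1),0),(true,0,0,(-1),0,0,0),(true,0,0,(-1),0,0,0),(true,(-1),(-1),0,0,0,0),(true,0,0,(-1),0,0,0),(true,0,0,0,0,0,(-1)),(true,(-1),0,0,(-1),0,0),(true,0,0,0,0,0,(-1)),(true,(-1),0,0,0,0,0),(true,(-1),0,0,0,0,0),(true,(-1),0,0,0,0,0)],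
[(false,0,0,0,0,0,0),(false,0,0,0,0,0,0),(false,0,0,0,0,0,0),(false,0,0,0,0,0,0),(false,0,0,0,0,0,0),(false,0,0,0,0,0,0),(true,(-1),0,0,0,0,0),(false,0,0,(-1),(-1),0,0),(true,0,0,0,0,0,(-1)),(true,0,0,0,0,0,(-1)),(true,0,0,0,0,0,(-1)),(true,0,0,0,0,0,(-1)),(true,(-1),0,(-1),0,0,0),(true,(-1),(-1),0,0,0,0),(true,0,0,(-1),0,0,0),(true,0,0,(-1),0,0,0),(true,0,0,0,0,(-1),0),(true,0,0,(-1),0,0,0),(true,0,0,0,0,(-1),0),(true,0,0,0,0,(-1),0),(true,0,0,0,0,(-1),0),(true,(-1),0,0,0,0,0),(true,(-1),0,0,0,0,0),(true,(-1),0,0,0,0,0)],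
[(false,0,0,0,0,0,0),(false,0,0,0,0,0,0),(false,0,0,0,0,0,0),(false,0,0,0,0,0,0),(false,0,0,0,0,0,0),(false,0,0,0,0,0,0),(false,0,0,0,0,0,0),(false,(-1),0,0,0,0,0),(false,(-1),0,0,0,0,0),(false,(-1),0,0,0,0,0),(false,(-1),0,0,0,0,0),(false,(-1),0,0,0,0,0),(false,(-1),0,0,0,0,0),(false,(-1),0,0,0,0,0),(false,(-1),0,0,0,0,0),(false,(-1),0,0,0,0,0),(false,(-1),0,0,0,0,0),(false,(-1),0,0,0,0,0),(false,(-1),0,0,0,0,0),(false,(-1),0,0,0,0,0),(false,(-1),0,0,0,0,0),(true,0,0,0,0,(-1),0),(true,0,0,(-1),0,0,0),(true,0,0,(-1),0,0,0)],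
[(false,0,0,0,0,0,0),(false,0,0,0,0,0,0),(false,0,0,0,0,0,0),(false,0,0,0,0,0,0),(false,0,0,0,0,0,0),(false,0,0,0,0,0,0),(false,0,0,0,0,0,0),(false,0,0,0,0,0,0),(true,0,0,0,0,0,(-1)),(true,0,0,0,0,0,(-1)),(true,0,0,0,0,0,(-1)),(true,0,0,0,0,0,(-1)),(true,(-1),0,(-1),0,0,0),(true,(-1),(-1),0,0,0,0),(true,0,0,(-1),0,0,0),(true,0,0,(-1),0,0,0),(true,0,0,0,0,(-1),0),(true,0,0,(-1),0,0,0),(true,0,0,0,0,(-1),0),(true,0,0,0,0,(-1),0),(true,0,0,0,0,(-1),0),(true,(-1),0,0,0,0,0),(true,(-1),0,0,0,0,0),(true,(-1),0,0,0,0,0)],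
[(false,0,0,0,0,0,0),(false,0,0,0,0,0,0),(false,0,0,0,0,0,0),(false,0,0,0,0,0,0),(false,0,0,0,0,0,0),(false,0,0,0,0,0,0),(false,0,0,0,0,0,0),(false,0,0,0,0,0,0),(false,0,0,0,0,0,0),(false,(-1),0,(-1),0,0,0),(false,(-1),0,(-1),0,0,0),(false,(-1),0,(-1),0,0,0),(false,0,0,0,0,0,(-1)),(false,0,0,0,0,0,(-1)),(true,0,0,(-1),0,0,0),(true,0,0,(-1),0,0,0),(true,0,0,0,0,(-1),0),(true,0,0,(-1),0,0,0),(true,0,0,0,0,(-1),0),(true,0,0,0,0,(-1),0),(true,0,0,0,0,(-1),0),(true,(-1),0,0,0,0,0),(true,(-1),0,0,0,0,0),(true,(-1),0,0,0,0,0)],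
[(false,0,0,0,0,0,0),(false,0,0,0,0,0,0),(false,0,0,0,0,0,0),(false,0,0,0,0,0,0),(false,0,0,0,0,0,0),(false,0,0,0,0,0,0),(false,0,0,0,0,0,0),(false,0,0,0,0,0,0),(false,0,0,0,0,0,0),(false,0,0,0,0,0,0),(true,(-1),(-1),0,0,0,0),(false,0,0,(-1),(-1),0,0),(false,0,0,0,0,0,(-1)),(false,0,0,0,0,0,(-1)),(true,0,0,(-1),0,0,0),(true,0,0,(-1),0,0,0),(true,0,0,0,0,(-1),0),(true,0,0,(-1),0,0,0),(true,0,0,0,0,(-1),0),(true,0,0,0,0,(-1),0),(true,0,0,0,0,(-1),0),(true,(-1),0,0,0,0,0),(true,(-1),0,0,0,0,0),(true,(-1),0,0,0,0,0)],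
[(false,0,0,0,0,0,0),(false,0,0,0,0,0,0),(false,0,0,0,0,0,0),(false,0,0,0,0,0,0),(false,0,0,0,0,0,0),(false,0,0,0,0,0,0),(false,0,0,0,0,0,0),(false,0,0,0,0,0,0),(false,0,0,0,0,0,0),(false,0,0,0,0,0,0),(false,0,0,0,0,0,0),(false,(-1),(-1),0,0,0,0),(false,0,0,0,0,0,(-1)),(false,0,0,0,0,0,(-1)),(true,0,0,(-1),0,0,0),(true,0,0,(-1),0,0,0),(true,0,0,0,0,(-1),0),(true,0,0,(-1),0,0,0),(true,0,0,0,0,(-1),0),(true,0,0,0,0,(-1),0),(true,0,0,0,0,(-1),0),(true,(-1),0,0,0,0,0),(true,(-1),0,0,0,0,0),(true,(-1),0,0,0,0,0)],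
[(false,0,0,0,0,0,0),(false,0,0,0,0,0,0),(false,0,0,0,0,0,0),(false,0,0,0,0,0,0),(false,0,0,0,0,0,0),(false,0,0,0,0,0,0),(false,0,0,0,0,0,0),(false,0,0,0,0,0,0),(false,0,0,0,0,0,0),(false,0,0,0,0,0,0),(false,0,0,0,0,0,0),(false,0,0,0,0,0,0),(false,0,0,0,0,0,(-1)),(false,0,0,0,0,0,(-1)),(true,0,0,(-1),0,0,0),(true,0,0,(-1),0,0,0),(true,0,0,0,0,(-1),0),(true,0,0,(-1),0,0,0),(true,0,0,0,0,(-1),0),(true,0,0,0,0,(-1),0),(true,0,0,0,0,(-1),0),(true,(-1),0,0,0,0,0),(true,(-1),0,0,0,0,0),(true,(-1),0,0,0,0,0)],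
[(false,0,0,0,0,0,0),(false,0,0,0,0,0,0),(false,0,0,0,0,0,0),(false,0,0,0,0,0,0),(false,0,0,0,0,0,0),(false,0,0,0,0,0,0),(false,0,0,0,0,0,0),(false,0,0,0,0,0,0),(false,0,0,0,0,0,0),(false,0,0,0,0,0,0),(false,0,0,0,0,0,0),(false,0,0,0,0,0,0),(false,0,0,0,0,0,0),(false,(-1),0,(-1),0,0,0),(true,0,0,(-1),0,0,0),(true,0,0,(-1),0,0,0),(true,0,0,0,0,(-1),0),(true,0,0,(-1),0,0,0),(true,0,0,0,0,(-1),0),(true,0,0,0,0,(-1),0),(true,0,0,0,0,(-1),0),(true,(-1),0,0,0,0,0),(true,(-1),0,0,0,0,0),(true,(-1),0,0,0,0,0)],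
[(false,0,0,0,0,0,0),(false,0,0,0,0,0,0),(false,0,0,0,0,0,0),(false,0,0,0,0,0,0),(false,0,0,0,0,0,0),(false,0,0,0,0,0,0),(false,0,0,0,0,0,0),(false,0,0,0,0,0,0),(false,0,0,0,0,0,0),(false,0,0,0,0,0,0),(false,0,0,0,0,0,0),(false,0,0,0,0,0,0),(false,0,0,0,0,0,0),(false,0,0,0,0,0,0),(true,0,0,(-1),0,0,0),(true,0,0,(-1),0,0,0),(true,0,0,0,0,(-1),0),(true,0,0,(-1),0,0,0),(true,0,0,0,0,(-1),0),(true,0,0,0,0,(-1),0),(true,0,0,0,0,(-1),0),(true,(-1),0,0,0,0,0),(true,(-1),0,0,0,0,0),(true,(-1),0,0,0,0,0)],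
[(false,0,0,0,0,0,0),(false,0,0,0,0,0,0),(false,0,0,0,0,0,0),(false,0,0,0,0,0,0),(false,0,0,0,0,0,0),(false,0,0,0,0,0,0),(false,0,0,0,0,0,0),(false,0,0,0,0,0,0),(false,0,0,0,0,0,0),(false,0,0,0,0,0,0),(false,0,0,0,0,0,0),(false,0,0,0,0,0,0),(false,0,0,0,0,0,0),(false,0,0,0,0,0,0),(false,0,0,0,0,0,0),(false,0,0,0,0,(-1),0),(false,0,0,(-1),0,0,0),(false,0,0,0,0,(-1),0),(false,0,0,(-1),0,0,0),(false,0,0,(-1),0,0,0),(false,0,0,(-1),0,0,0),(true,(-1),0,0,0,0,0),(true,(-1),0,0,0,0,0),(true,(-1),0,0,0,0,0)],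
[(false,0,0,0,0,0,0),(false,0,0,0,0,0,0),(false,0,0,0,0,0,0),(false,0,0,0,0,0,0),(false,0,0,0,0,0,0),(false,0,0,0,0,0,0),(false,0,0,0,0,0,0),(false,0,0,0,0,0,0),(false,0,0,0,0,0,0),(false,0,0,0,0,0,0),(false,0,0,0,0,0,0),(false,0,0,0,0,0,0),(false,0,0,0,0,0,0),(false,0,0,0,0,0,0),(false,0,0,0,0,0,0),(false,0,0,0,0,0,0),(false,0,0,(-1),0,0,0),(false,0,0,0,0,0,(-1)),(false,0,0,(-1),0,0,0),(false,0,0,(-1),0,0,0),(false,0,0,(-1),0,0,0),(true,(-1),0,0,0,0,0),(true,(-1),0,0,0,0,0),(true,(-1),0,0,0,0,0)],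
[(false,0,0,0,0,0,0),(false,0,0,0,0,0,0),(false,0,0,0,0,0,0),(false,0,0,0,0,0,0),(false,0,0,0,0,0,0),(false,0,0,0,0,0,0),(false,0,0,0,0,0,0),(false,0,0,0,0,0,0),(false,0,0,0,0,0,0),(false,0,0,0,0,0,0),(false,0,0,0,0,0,0),(false,0,0,0,0,0,0),(false,0,0,0,0,0,0),(false,0,0,0,0,0,0),(false,0,0,0,0,0,0),(false,0,0,0,0,0,0),(false,0,0,0,0,0,0),(true,0,0,(-1),0,0,0),(true,0,0,0,0,0,(-1)),(true,(-1),0,(-1),0,0,0),(true,0,0,0,0,0,(-1)),(true,(-1),0,0,0,0,0),(true,(-1),0,0,0,0,0),(true,(-1),0,0,0,0,0)],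
[(false,0,0,0,0,0,0),(false,0,0,0,0,0,0),(false,0,0,0,0,0,0),(false,0,0,0,0,0,0),(false,0,0,0,0,0,0),(false,0,0,0,0,0,0),(false,0,0,0,0,0,0),(false,0,0,0,0,0,0),(false,0,0,0,0,0,0),(false,0,0,0,0,0,0),(false,0,0,0,0,0,0),(false,0,0,0,0,0,0),(false,0,0,0,0,0,0),(false,0,0,0,0,0,0),(false,0,0,0,0,0,0),(false,0,0,0,0,0,0),(false,0,0,0,0,0,0),(false,0,0,0,0,0,0),(false,0,0,(-1),0,0,0),(false,0,0,(-1),0,0,0),(false,0,0,(-1),0,0,0),(true,(-1),0,0,0,0,0),(true,(-1),0,0,0,0,0),(true,(-1),0,0,0,0,0)],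
[(false,0,0,0,0,0,0),(false,0,0,0,0,0,0),(false,0,0,0,0,0,0),(false,0,0,0,0,0,0),(false,0,0,0,0,0,0),(false,0,0,0,0,0,0),(false,0,0,0,0,0,0),(false,0,0,0,0,0,0),(false,0,0,0,0,0,0),(false,0,0,0,0,0,0),(false,0,0,0,0,0,0),(false,0,0,0,0,0,0),(false,0,0,0,0,0,0),(false,0,0,0,0,0,0),(false,0,0,0,0,0,0),(false,0,0,0,0,0,0),(false,0,0,0,0,0,0),(false,0,0,0,0,0,0),(false,0,0,0,0,0,0),(false,0,0,0,0,0,(-1)),(true,0,0,(-1),(-1),0,0),(true,(-1),0,0,0,0,0),(true,(-1),0,0,0,0,0),(true,(-1),0,0,0,0,0)],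
[(false,0,0,0,0,0,0),(false,0,0,0,0,0,0),(false,0,0,0,0,0,0),(false,0,0,0,0,0,0),(false,0,0,0,0,0,0),(false,0,0,0,0,0,0),(false,0,0,0,0,0,0),(false,0,0,0,0,0,0),(false,0,0,0,0,0,0),(false,0,0,0,0,0,0),(false,0,0,0,0,0,0),(false,0,0,0,0,0,0),(false,0,0,0,0,0,0),(false,0,0,0,0,0,0),(false,0,0,0,0,0,0),(false,0,0,0,0,0,0),(false,0,0,0,0,0,0),(false,0,0,0,0,0,0),(false,0,0,0,0,0,0),(false,0,0,0,0,0,0),(true,0,0,0,0,0,(-1)),(true,(-1),0,0,0,0,0),(true,(-1),0,0,0,0,0),(true,(-1),0,0,0,0,0)],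
[(false,0,0,0,0,0,0),(false,0,0,0,0,0,0),(false,0,0,0,0,0,0),(false,0,0,0,0,0,0),(false,0,0,0,0,0,0),(false,0,0,0,0,0,0),(false,0,0,0,0,0,0),(false,0,0,0,0,0,0),(false,0,0,0,0,0,0),(false,0,0,0,0,0,0),(false,0,0,0,0,0,0),(false,0,0,0,0,0,0),(false,0,0,0,0,0,0),(false,0,0,0,0,0,0),(false,0,0,0,0,0,0),(false,0,0,0,0,0,0),(false,0,0,0,0,0,0),(false,0,0,0,0,0,0),(false,0,0,0,0,0,0),(false,0,0,0,0,0,0),(false,0,0,0,0,0,0),(true,(-1),0,0,0,0,0),(true,(-1),0,0,0,0,0),(true,(-1),0,0,0,0,0)],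
[(false,0,0,0,0,0,0),(false,0,0,0,0,0,0),(false,0,0,0,0,0,0),(false,0,0,0,0,0,0),(false,0,0,0,0,0,0),(false,0,0,0,0,0,0),(false,0,0,0,0,0,0),(false,0,0,0,0,0,0),(false,0,0,0,0,0,0),(false,0,0,0,0,0,0),(false,0,0,0,0,0,0),(false,0,0,0,0,0,0),(false,0,0,0,0,0,0),(false,0,0,0,0,0,0),(false,0,0,0,0,0,0),(false,0,0,0,0,0,0),(false,0,0,0,0,0,0),(false,0,0,0,0,0,0),(false,0,0,0,0,0,0),(false,0,0,0,0,0,0),(false,0,0,0,0,0,0),(false,0,0,0,0,0,0),(true,0,0,(-1),0,0,0),(true,0,0,(-1),0,0,0)],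
[(false,0,0,0,0,0,0),(false,0,0,0,0,0,0),(false,0,0,0,0,0,0),(false,0,0,0,0,0,0),(false,0,0,0,0,0,0),(false,0,0,0,0,0,0),(false,0,0,0,0,0,0),(false,0,0,0,0,0,0),(false,0,0,0,0,0,0),(false,0,0,0,0,0,0),(false,0,0,0,0,0,0),(false,0,0,0,0,0,0),(false,0,0,0,0,0,0),(false,0,0,0,0,0,0),(false,0,0,0,0,0,0),(false,0,0,0,0,0,0),(false,0,0,0,0,0,0),(false,0,0,0,0,0,0),(false,0,0,0,0,0,0),(false,0,0,0,0,0,0),(false,0,0,0,0,0,0),(false,0,0,0,0,0,0),(false,0,0,0,0,0,0),(true,0,0,0,0,0,(-1))],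
[(false,0,0,0,0,0,0),(false,0,0,0,0,0,0),(false,0,0,0,0,0,0),(false,0,0,0,0,0,0),(false,0,0,0,0,0,0),(false,0,0,0,0,0,0),(false,0,0,0,0,0,0),(false,0,0,0,0,0,0),(false,0,0,0,0,0,0),(false,0,0,0,0,0,0),(false,0,0,0,0,0,0),(false,0,0,0,0,0,0),(false,0,0,0,0,0,0),(false,0,0,0,0,0,0),(false,0,0,0,0,0,0),(false,0,0,0,0,0,0),(false,0,0,0,0,0,0),(false,0,0,0,0,0,0),(false,0,0,0,0,0,0),(false,0,0,0,0,0,0),(false,0,0,0,0,0,0),(false,0,0,0,0,0,0),(false,0,0,0,0,0,0),(false,0,0,0,0,0,0)]]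

/-- the witnesses -/
def wit (k s : ℕ) : Bool × ℤ × ℤ × ℤ × ℤ × ℤ × ℤ := (witL.getD k []).getD s (false,0,0,0,0,0,0)

/-- exponents of `u` -/
def eA (r : ℕ) (v : ℤ × ℤ × ℤ × ℤ × ℤ × ℤ) : ℤ :=
  v.1 * chevE6.cartan 0 r + v.2.1 * chevE6.cartan 5 r + v.2.2.1 * chevE6.cartan 2 r + v.2.2.2.1 * chevE6.cartan 4 r +
    v.2.2.2.2.1 * chevE6.cartan 1 r + v.2.2.2.2.2 * chevE6.cartan 3 r

/-- exponents of `f u` -/
def eB (r : ℕ) (v : ℤ × ℤ × ℤ × ℤ × ℤ × ℤ) : ℤ :=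
  v.1 * chevE6.cartan 5 r + v.2.1 * chevE6.cartan 0 r + v.2.2.1 * chevE6.cartan 4 r + v.2.2.2.1 * chevE6.cartan 2 r +
    v.2.2.2.2.1 * chevE6.cartan 1 r + v.2.2.2.2.2 * chevE6.cartan 3 r

/-- the value is one -/
def isZ (r : ℕ) (v : ℤ × ℤ × ℤ × ℤ × ℤ × ℤ) : Prop := eA r v = 0 ∧ eB r v = 0

/-- the value is not one -/
def isG (r : ℕ) (v : ℤ × ℤ × ℤ × ℤ × ℤ × ℤ) : Prop :=
  (eA r v = 1 ∧ eB r v = 1) ∨ (eA r v = -1 ∧ eB r v = -1) ∨ (eA r v = 1 ∧ eB r v = 0) ∨ (eA r v = -1 ∧ eB r v = 0) ∨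
  (eA r v = 0 ∧ eB r v = 1) ∨ (eA r v = 0 ∧ eB r v = -1) ∨ (eA r v = 1 ∧ eB r v = -1) ∨ (eA r v = -1 ∧ eB r v = 1)

instance (r : ℕ) (v : ℤ × ℤ × ℤ × ℤ × ℤ × ℤ) : Decidable (isZ r v) := by unfold isZ; infer_instance
instance (r : ℕ) (v : ℤ × ℤ × ℤ × ℤ × ℤ × ℤ) : Decidable (isG r v) := by unfold isG; infer_instance

set_option synthInstance.maxSize 10000 in
set_option synthInstance.maxHeartbeats 2000000 in
theorem wit_ok : ∀ k < 24, ∀ s < 24, k < s →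
    (((wit k s).1 = false ∧ (∀ r ∈ cls k, isZ r (wit k s).2) ∧ (∀ r ∈ cls s, isG r (wit k s).2)) ∨
     ((wit k s).1 = true ∧ (∀ r ∈ cls s, isZ r (wit k s).2) ∧ (∀ r ∈ cls k, isG r (wit k s).2))) := by
  decide +kernel

theorem cls_iff : ∀ j < 24, ∀ r, (r < chevE6.nroots ∧ rel r = j) ↔ r ∈ cls j := by
  have h1 : ∀ j < 24, ∀ r ∈ cls j, r < chevE6.nroots ∧ rel r = j := by decide +kernel
  have h2 : ∀ r < chevE6.nroots, ∀ j < 24, rel r = j → r ∈ cls j := by decide +kernel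
  intro j hj r
  exact ⟨fun h => h2 r h.1 j hj h.2, h1 j hj r⟩

theorem rel_lt : ∀ r < chevE6.nroots, rel r < 2 * 24 := by decide +kernel
theorem rel_pos : ∀ r < chevE6.nroots, RootE6T.R.N ≤ r ↔ rel r < 24 := by decide +kernel
theorem rel_neg : ∀ r < chevE6.nroots, RootE6T.R.N ≤ r → rel (chevE6.neg r) = 24 + rel r := by decide +kernel
theorem rel_rep : ∀ j < 48, repR j < chevE6.nroots ∧ rel (repR j) = j := by decide +kernel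
theorem rel_rho : ∀ r < chevE6.nroots, rel (TwTabE6.S.r r) = rel r := by decide +kernel
theorem rel_orb : ∀ r < chevE6.nroots, ∀ r' < chevE6.nroots, rel r = rel r' → r' = r ∨ r' = TwTabE6.S.r r := by decide +kernel
set_option synthInstance.maxSize 10000 in
set_option synthInstance.maxHeartbeats 2000000 in
theorem rel_comm1 : ∀ r < chevE6.nroots, ∀ s < chevE6.nroots, RootE6T.R.N ≤ r → RootE6T.R.N ≤ s → s ≠ r →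
    ∀ c ∈ chevE6.commTerms r s, rel r < rel c.1 ∧ rel s < rel c.1 := by decide +kernel
set_option synthInstance.maxSize 10000 in
set_option synthInstance.maxHeartbeats 2000000 in
theorem rel_comm2 : ∀ r < chevE6.nroots, ∀ s < chevE6.nroots, RootE6T.R.N ≤ r → RootE6T.R.N ≤ s → s ≠ r → rel r = rel s →
    chevE6.commTerms r s = [] := by decide +kernel

end Cfsg.Agent.Lib.TwE6St
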